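import Groth.Agent.TorsFiniteLib.Basic
import Groth.Agent.GrpFieldLib.Extra

/-!
Torsors under finite connected groups over a field become trivial over a uniform power of the Frobenius.
-/

set_option autoImplicit false
set_option backward.isDefEq.respectTransparency false
set_option linter.style.haveILetI false
universe u

open CategoryTheory CategoryTheory.Limits MonoidalCategory CartesianMonoidalCategory AlgebraicGeometry
open NonAbH1 TorsExtLib
open scoped MonObj

attribute [-instance] CategoryTheory.Hom.commGroup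

noncomputable section

namespace Groth.Agent.TorsFiniteExp

variable {K : Type u} [Field K]

/-- An algebra of dimension at most `n` with a unique geometric point maps to `K` semilinearly along the `n`-th
Frobenius. -/
theorem exists_frobenius_point {A : Type u} [CommRing A] [Algebra K A] [Module.Finite K A] (p n : ℕ) [ExpChar K p]
    (φ : A →ₐ[K] AlgebraicClosure K) (huniq : ∀ ψ : A →ₐ[K] AlgebraicClosure K, ψ = φ)
    (hn : Module.finrank K A ≤ n) : ∃ r : A →+* K, r.comp (algebraMap K A) = iterateFrobenius K p n := by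
  classical
  let Kb := AlgebraicClosure K
  haveI : ExpChar Kb p := expChar_of_injective_ringHom (algebraMap K Kb).injective p
  have h : ∀ a, ∃ c : K, algebraMap K Kb c = φ a ^ p ^ n := by
    intro a
    have hint : IsIntegral K (φ a) := Algebra.IsIntegral.isIntegral _
    have hroot : ∀ r ∈ (minpoly K (φ a)).rootSet Kb, r = φ a := by
      intro r hr
      have hc : IsConjRoot K (φ a) r := (isConjRoot_iff_mem_minpoly_rootSet hint).2 hr
      obtain ⟨σ, hσ⟩ := hc.symm.exists_algEquiv
      rw [← hσ]
      exact congr($(huniq (σ.toAlgHom.comp φ)) a)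
    have hsep : (minpoly K (φ a)).natSepDegree = 1 := by
      rw [Polynomial.natSepDegree_eq_of_isAlgClosed (E := Kb)]
      refine le_antisymm (Finset.card_le_one.2 fun x hx y hy => ?_) (Finset.card_pos.2 ⟨φ a, ?_⟩)
      · rw [hroot x (by simpa [Polynomial.rootSet_def, Polynomial.aroots] using hx),
          hroot y (by simpa [Polynomial.rootSet_def, Polynomial.aroots] using hy)]
      · rw [Multiset.mem_toFinset, Polynomial.mem_aroots]
        exact ⟨minpoly.ne_zero hint, minpoly.aeval _ _⟩
    obtain ⟨k, y, hk⟩ := (minpoly.natSepDegree_eq_one_iff_eq_expand_X_sub_C p).1 hsep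
    have hy : φ a ^ p ^ k = algebraMap K Kb y := by
      have := minpoly.aeval K (φ a)
      rw [hk, Polynomial.expand_aeval, map_sub, Polynomial.aeval_X, Polynomial.aeval_C, sub_eq_zero] at this
      exact this
    have hdeg : p ^ k ≤ n := by
      refine le_trans ?_ hn
      let f := Algebra.lmul K A a
      have ha : Polynomial.aeval a f.charpoly = 0 := by
        apply Algebra.lmul_injective (R := K)
        rw [map_zero, ← Polynomial.aeval_algHom_apply]
        exact LinearMap.aeval_self_charpoly f
      have h1 : minpoly K (φ a) ∣ f.charpoly := minpoly.dvd K _ (by rw [Polynomial.aeval_algHom_apply, ha, map_zero])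
      have h2 := Polynomial.natDegree_le_of_dvd h1 f.charpoly_monic.ne_zero
      rw [f.charpoly_natDegree, hk, Polynomial.natDegree_expand, Polynomial.natDegree_X_sub_C, one_mul] at h2
      exact h2
    obtain hp | hp := (expChar_is_prime_or_one K p).symm
    · subst hp
      exact ⟨y, by simpa using hy.symm⟩
    · have hkn : k ≤ n := le_trans (Nat.lt_pow_self hp.one_lt).le hdeg
      refine ⟨y ^ p ^ (n - k), ?_⟩
      rw [map_pow, ← hy, ← pow_mul, ← pow_add, Nat.add_sub_cancel' hkn]
  choose c hc using h
  have hinj : Function.Injective (algebraMap K Kb) := (algebraMap K Kb).injective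
  refine ⟨{ toFun := c, map_one' := hinj ?_, map_mul' := fun x y => hinj ?_, map_zero' := hinj ?_,
            map_add' := fun x y => hinj ?_ }, RingHom.ext fun x => hinj ?_⟩
  · rw [hc, map_one, map_one, one_pow]
  · rw [map_mul, hc, hc, hc, map_mul, mul_pow]
  · rw [hc, map_zero, map_zero, zero_pow (pow_pos (expChar_pos K p) n).ne']
  · rw [map_add, hc, hc, hc, map_add, add_pow_expChar_pow]
  · show algebraMap K Kb (c (algebraMap K A x)) = _
    rw [hc, φ.commutes, iterateFrobenius_def, map_pow]

variable {G X : Over (Spec (CommRingCat.of K))} [GrpObj G] [IsFinite G.hom] [ConnectedSpace G.left]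

/-- A torsor under a finite connected group of degree at most `n` is trivial over the `n`-th Frobenius. -/
theorem hasSectionOver_iterateFrobenius (p n : ℕ) [ExpChar K p]
    (hn : G.hom.finrank (IsLocalRing.closedPoint K) ≤ n) (a : AlgGrp.Action G X)
    (h : NonAbH1.IsTorsorFor Scheme.fppfPrecoverage a) :
    NonAbH1.HasSectionOver X (Spec.map (CommRingCat.ofHom (iterateFrobenius K p n))) := by
  obtain ⟨hp, R, hR, hsec⟩ := h
  have hq : IsTorsorFor Scheme.fpqcPrecoverage a := ⟨hp, R, Scheme.fppfPrecoverage_le_fpqcPrecoverage _ hR, hsec⟩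
  obtain ⟨T₀, -, hT₀, -, ⟨p₀⟩⟩ := exists_cover (S := Spec (CommRingCat.of K)) ⟨R, hR, hsec⟩
  haveI : IsFinite X.hom := Groth.Agent.TorsFpqc.property_of_torsor @IsFinite a hq ‹_›
  haveI : Flat G.hom := GrpField.flat_field _
  haveI : Flat X.hom := GrpField.flat_field _
  haveI : IsAffine X.left := isAffine_of_isAffineHom X.hom
  obtain ⟨φ₀, hφ₀⟩ := Spec.map_surjective (X.left.isoSpec.inv ≫ X.hom)
  letI : Algebra K Γ(X.left, ⊤) := φ₀.hom.toAlgebra
  let A := Γ(X.left, ⊤)
  have hst : X.left.isoSpec.inv ≫ X.hom = Spec.map (CommRingCat.ofHom (algebraMap K A)) := hφ₀.symm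
  haveI : Module.Finite K A := by
    haveI : IsFinite (Spec.map φ₀) := by rw [hφ₀]; infer_instance
    exact RingHom.finite_algebraMap.1 ((IsFinite.SpecMap_iff φ₀).1 inferInstance)
  haveI : Nontrivial A := by
    by_contra hne
    haveI : Subsingleton A := not_nontrivial_iff_subsingleton.1 hne
    obtain ⟨t, -⟩ := hT₀.surj (IsLocalRing.closedPoint K)
    exact IsEmpty.false (α := PrimeSpectrum A) (X.left.isoSpec.hom (p₀.left t))
  obtain ⟨m, hm⟩ := Ideal.exists_maximal A
  letI := Ideal.Quotient.field m
  let φ : A →ₐ[K] AlgebraicClosure K :=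
    (IsAlgClosed.lift (R := K) (S := A ⧸ m) (M := AlgebraicClosure K)).comp (Ideal.Quotient.mkₐ K m)
  let Kb := AlgebraicClosure K
  let T : Over (Spec (CommRingCat.of K)) := Over.mk (Spec.map (CommRingCat.ofHom (algebraMap K Kb)))
  haveI : AlgebraicGeometry.IsReduced T.left := inferInstanceAs (AlgebraicGeometry.IsReduced (Spec (CommRingCat.of Kb)))
  let pt : (A →ₐ[K] Kb) → (T ⟶ X) := fun ψ =>
    Over.homMk (Spec.map (CommRingCat.ofHom ψ.toRingHom) ≫ X.left.isoSpec.inv) (by
      show (_ ≫ _) ≫ X.hom = Spec.map _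
      rw [Category.assoc, hst, ← Spec.map_comp, ← CommRingCat.ofHom_comp]
      exact congrArg (fun f => Spec.map (CommRingCat.ofHom f)) ψ.comp_algebraMap)
  haveI : IsIso (orb a (pt φ)) := isIso_orb a hp (pt φ)
  have huniq : ∀ ψ, ψ = φ := by
    intro ψ
    let g : T ⟶ G := lift (pt ψ) (𝟙 T) ≫ inv (orb a (pt φ)) ≫ fst G T
    have h2 : inv (orb a (pt φ)) ≫ snd G T = snd X T := by
      rw [IsIso.inv_comp_eq]; simp [orb]
    have h3 : lift g (𝟙 T) = lift (pt ψ) (𝟙 T) ≫ inv (orb a (pt φ)) := by
      apply CartesianMonoidalCategory.hom_ext <;> simp [g, h2]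
    have h4 : lift g (𝟙 T) ≫ orb a (pt φ) = lift (pt ψ) (𝟙 T) := by
      rw [h3, Category.assoc, IsIso.inv_hom_id, Category.comp_id]
    have h5 : lift g (pt φ) ≫ a.act = pt ψ := by simpa [orb] using congrArg (· ≫ fst X T) h4
    have hg : lift g (pt φ) = lift (toUnit T) (pt φ) ≫ (η[G] ▷ X) := by
      rw [TorsFinite.point_eq_one g]
      apply CartesianMonoidalCategory.hom_ext <;> simp [Hom.one_def]
    rw [hg, Category.assoc, a.one_act, leftUnitor_hom, lift_snd] at h5
    have h6 : Spec.map (CommRingCat.ofHom ψ.toRingHom) = Spec.map (CommRingCat.ofHom φ.toRingHom) :=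
      (cancel_mono X.left.isoSpec.inv).1 (congrArg CommaMorphism.left h5.symm)
    exact AlgHom.coe_ringHom_injective (congrArg CommRingCat.Hom.hom (Spec.map_injective h6))
  -- the degree
  have hrank : Module.finrank K A ≤ n := by
    let e : pullback G.hom T.hom ⟶ pullback X.hom T.hom := (orb a (pt φ)).left
    haveI : IsIso e := inferInstanceAs (IsIso ((Over.forget _).map (orb a (pt φ))))
    have he : e ≫ pullback.snd X.hom T.hom = pullback.snd G.hom T.hom :=
      congrArg Over.Hom.left (show orb a (pt φ) ≫ snd X T = snd G T from lift_snd _ _)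
    have h1 : (pullback.snd X.hom T.hom).finrank (IsLocalRing.closedPoint Kb) =
        (pullback.snd G.hom T.hom).finrank (IsLocalRing.closedPoint Kb) := by
      rw [← he, Scheme.Hom.finrank_comp_left_of_isIso]
    rw [Scheme.Hom.finrank_pullback_snd, Scheme.Hom.finrank_pullback_snd,
      Subsingleton.elim (α := PrimeSpectrum K) (T.hom (IsLocalRing.closedPoint Kb)) (IsLocalRing.closedPoint K)] at h1
    refine le_trans (le_of_eq ?_) (h1 ▸ hn)
    rw [show X.hom = X.left.isoSpec.hom ≫ Spec.map (CommRingCat.ofHom (algebraMap K A)) by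
      rw [← hst, Iso.hom_inv_id_assoc]]
    haveI : IsFinite (Spec.map (CommRingCat.ofHom (algebraMap K A))) := by rw [← hst]; infer_instance
    haveI : Flat (Spec.map (CommRingCat.ofHom (algebraMap K A))) := by rw [← hst]; infer_instance
    rw [Scheme.Hom.finrank_comp_left_of_isIso, Scheme.Hom.finrank_SpecMap_algebraMap]
    exact (congrFun Module.rankAtStalk_eq_finrank_of_free _).symm
  obtain ⟨r, hr⟩ := exists_frobenius_point p n φ huniq hrank
  refine ⟨Spec.map (CommRingCat.ofHom r) ≫ X.left.isoSpec.inv, ?_⟩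
  rw [Category.assoc, hst, ← Spec.map_comp, ← CommRingCat.ofHom_comp, hr]

end Groth.Agent.TorsFiniteExp
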